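import Cfsg.Agent.H61.K5.Split
import Cfsg.Agent.Blocks.PrincipalInflate
import Cfsg.Agent.S0948
import Cfsg.Agent.S4512

/-!
# The section of an involution `z` with `C_G(z) = ⟨z⟩ × K`, `K` with a Klein four Sylow subgroup (helper61)

`card_ne_five`: the principal 2-block of `G` does not have exactly five irreducible characters.
-/

set_option autoImplicit false

open Cfsg Cfsg.Agent.Blocks.Basic Cfsg.Agent.Blocks.Local
open scoped ComplexConjugate

namespace Cfsg.Agent.H61.K5

/-! ### arithmetic -/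

theorem even_of_sum (a b : Fin 4 → ℤ) (haa : ∑ i, a i * a i = 3) (hbb : ∑ i, b i * b i = 4)
    (hab : Even (∑ i, a i * b i)) : ∀ i, Even (b i) := by
  have hsq : ∀ x : ℤ, ∃ k : ℤ, x * x = 4 * k + x % 2 := by
    intro x
    rcases Int.even_or_odd' x with ⟨k, rfl | rfl⟩
    · exact ⟨k * k, by rw [Int.mul_emod_right]; ring⟩
    · refine ⟨k * k + k, ?_⟩
      have : (2 * k + 1) % 2 = 1 := by omega
      rw [this]; ring
  have hodd : ∀ x y : ℤ, y % 2 = 1 → ∃ k : ℤ, x * y = x * x + 2 * k := by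
    intro x y hy
    rcases Int.even_or_odd' x with ⟨k, rfl | rfl⟩
    · exact ⟨k * y - 2 * k * k, by ring⟩
    · obtain ⟨l, rfl⟩ : ∃ l, y = 2 * l + 1 := ⟨y / 2, by omega⟩
      exact ⟨(2 * k + 1) * (l - k), by ring⟩
  rw [Fin.sum_univ_four] at haa hbb hab
  have hr : (∀ i, b i % 2 = 0) ∨ ∀ i, b i % 2 = 1 := by
    obtain ⟨k0, h0⟩ := hsq (b 0)
    obtain ⟨k1, h1⟩ := hsq (b 1)
    obtain ⟨k2, h2⟩ := hsq (b 2)
    obtain ⟨k3, h3⟩ := hsq (b 3)
    rw [h0, h1, h2, h3] at hbb
    by_cases hc : b 0 % 2 = 0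
    · left
      intro i
      fin_cases i <;> simp only [Fin.zero_eta, Fin.mk_one, Fin.reduceFinMk] <;> omega
    · right
      intro i
      fin_cases i <;> simp only [Fin.zero_eta, Fin.mk_one, Fin.reduceFinMk] <;> omega
  rcases hr with hr | hr
  · intro i
    exact Int.even_iff.2 (hr i)
  · exfalso
    obtain ⟨k0, h0⟩ := hodd (a 0) (b 0) (hr 0)
    obtain ⟨k1, h1⟩ := hodd (a 1) (b 1) (hr 1)
    obtain ⟨k2, h2⟩ := hodd (a 2) (b 2) (hr 2)
    obtain ⟨k3, h3⟩ := hodd (a 3) (b 3) (hr 3)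
    rw [h0, h1, h2, h3] at hab
    obtain ⟨l, hl⟩ := hab
    omega

theorem arith (a b c : Fin 4 → ℤ) (haa : ∑ i, a i * a i = 3) (hbb : ∑ i, b i * b i = 4)
    (hcc : ∑ i, c i * c i = 4) (hab : Even (∑ i, a i * b i)) (hac : Even (∑ i, a i * c i))
    (hbc : ∑ i, b i * c i = 2 ∨ ∑ i, b i * c i = -2) : False := by
  have hb := even_of_sum a b haa hbb hab
  have hc := even_of_sum a c haa hcc hac
  have h4 : (4 : ℤ) ∣ ∑ i, b i * c i := by
    refine Finset.dvd_sum fun i _ => ?_
    have := mul_dvd_mul (hb i).two_dvd (hc i).two_dvd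
    norm_num at this
    exact this
  omega

/-- independence of products -/
theorem tens {R ι : Type*} [Fintype ι] {θ : ι → R → ℂ}
    (hlin : ∀ c : ι → ℂ, (∀ y, ∑ i, c i * θ i y = 0) → ∀ i, c i = 0) (D : ι → ι → ℂ)
    (hD : ∀ y y', ∑ i, ∑ j, D i j * (θ i y * conj (θ j y')) = 0) (i j : ι) : D i j = 0 := by
  have h1 : ∀ y' i, ∑ j, D i j * conj (θ j y') = 0 := by
    intro y'
    apply hlin
    intro y
    rw [← hD y y']
    refine Finset.sum_congr rfl fun i _ => ?_
    rw [Finset.sum_mul]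
    exact Finset.sum_congr rfl fun j _ => by ring
  have h2 : ∀ j, conj (D i j) = 0 := by
    apply hlin
    intro y'
    have := congrArg conj (h1 y' i)
    rw [map_sum, map_zero] at this
    rw [← this]
    exact Finset.sum_congr rfl fun j _ => by rw [map_mul, Complex.conj_conj]
  exact (map_eq_zero _).1 (h2 j)

section

variable {G : Type*} [Group G] [Finite G]

/-- the coefficients are integers -/
theorem exists_int {z : G} {zH : ↥(Subgroup.centralizer ({z} : Set G))} (hz : (zH : G) = z)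
    {K : Subgroup ↥(Subgroup.centralizer ({z} : Set G))} (h : Spl zH K)
    [Fintype ↥(Subgroup.centralizer ({z} : Set G))] (χ : IrrCharacter G)
    (ξ : IrrCharacter ↥(Subgroup.centralizer ({z} : Set G))) :
    ∃ n : ℤ, classInner (fun c : ↥(Subgroup.centralizer ({z} : Set G)) => (χ : G → ℂ) (z * (c : G)))
      (ξ : ↥(Subgroup.centralizer ({z} : Set G)) → ℂ) = n := by
  obtain ⟨m, hm⟩ := Characters.Core.classInner_isNat
    (Characters.Core.isCharacter_comp (Subgroup.centralizer ({z} : Set G)).subtype (irr_isCharacter χ.2))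
    (irr_isCharacter ξ.2)
  rw [classInner_def] at hm ⊢
  rw [← Equiv.sum_comp (Equiv.mulLeft zH)] at hm
  have hz' : ∀ c : ↥(Subgroup.centralizer ({z} : Set G)),
      (Subgroup.centralizer ({z} : Set G)).subtype (zH * c) = z * (c : G) := by
    intro c
    rw [map_mul]
    change (zH : G) * c = _
    rw [hz]
  rcases h.z_mul ξ with h1 | h1
  · refine ⟨m, ?_⟩
    rw [Int.cast_natCast, ← hm]
    congr 1
    refine Finset.sum_congr rfl fun c _ => ?_
    rw [Equiv.coe_mulLeft, h1, Function.comp_apply, hz']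
  · refine ⟨-m, ?_⟩
    rw [Int.cast_neg, Int.cast_natCast, ← hm, ← mul_neg, ← Finset.sum_neg_distrib]
    congr 1
    refine Finset.sum_congr rfl fun c _ => ?_
    rw [Equiv.coe_mulLeft, h1, Function.comp_apply, hz', map_neg, mul_neg, neg_neg]

/-- the coefficients of a character in the section of `z` -/
theorem exists_coeff {M : Ideal AlgInt} (hM : IsPModular 2 M) {z : G}
    {zH : ↥(Subgroup.centralizer ({z} : Set G))} (hz : (zH : G) = z) (hz2 : orderOf z = 2)
    {K : Subgroup ↥(Subgroup.centralizer ({z} : Set G))} (h : Spl zH K)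
    [Fintype (IrrCharacter K)] [DecidablePred (· ∈ principalBlock M K)] (χ : IrrCharacter G)
    (hχ : χ ∈ principalBlock M G) :
    ∃ n : IrrCharacter K → ℤ, ∀ y : K, ¬ 2 ∣ orderOf y →
      (χ : G → ℂ) (z * ((y : ↥(Subgroup.centralizer ({z} : Set G))) : G)) =
        ∑ ζ with ζ ∈ principalBlock M K, (n ζ : ℂ) * (ζ : K → ℂ) y := by
  classical
  have : Fact (Nat.Prime 2) := ⟨Nat.prime_two⟩
  have := Fintype.ofFinite ↥(Subgroup.centralizer ({z} : Set G))
  have : Finite (IrrCharacter ↥(Subgroup.centralizer ({z} : Set G))) := Characters.Core.finite_irr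
  have := Fintype.ofFinite (IrrCharacter ↥(Subgroup.centralizer ({z} : Set G)))
  choose n hn using exists_int hz h χ
  refine ⟨fun ζ => n (h.ext false ζ) + n (h.ext true ζ), fun y hy => ?_⟩
  have hy' : ¬ 2 ∣ orderOf (y : ↥(Subgroup.centralizer ({z} : Set G))) := by
    rwa [Subgroup.orderOf_coe]
  rw [Blocks.PrincipalInflate.section_eq hM z ⟨1, by rw [hz2, pow_one]⟩ rfl hχ _ hy']
  have h1 := h.sum_principalBlock hM (fun ξ => classInner
    (fun c : ↥(Subgroup.centralizer ({z} : Set G)) => (χ : G → ℂ) (z * (c : G)))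
    (ξ : ↥(Subgroup.centralizer ({z} : Set G)) → ℂ) * (ξ : _ → ℂ) (y : ↥(Subgroup.centralizer ({z} : Set G))))
  refine Eq.trans (Eq.trans ?_ h1) ?_
  · exact Finset.sum_congr (by ext; simp) fun _ _ => rfl
  · refine Finset.sum_congr (by ext; simp) fun ζ _ => ?_
    rw [hn, hn, h.ext_coe, h.ext_coe]
    push_cast
    ring

/-- orthogonality in the section of `z` -/
theorem orth {M : Ideal AlgInt} (hM : IsPModular 2 M) {z : G}
    {zH : ↥(Subgroup.centralizer ({z} : Set G))} (hz2 : orderOf z = 2)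
    {K : Subgroup ↥(Subgroup.centralizer ({z} : Set G))} (h : Spl zH K)
    [Fintype (IrrCharacter K)] [DecidablePred (· ∈ principalBlock M K)]
    [Fintype (principalBlock M G)] (y y' : K) (hy : ¬ 2 ∣ orderOf y) (hy' : ¬ 2 ∣ orderOf y') :
    ∑ χ ∈ (principalBlock M G).toFinset,
      (χ : G → ℂ) (z * ((y : ↥(Subgroup.centralizer ({z} : Set G))) : G)) *
        conj ((χ : G → ℂ) (z * ((y' : ↥(Subgroup.centralizer ({z} : Set G))) : G))) =
      2 * ∑ ζ with ζ ∈ principalBlock M K, (ζ : K → ℂ) y * conj ((ζ : K → ℂ) y') := by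
  classical
  have : Fact (Nat.Prime 2) := ⟨Nat.prime_two⟩
  have : Finite (IrrCharacter ↥(Subgroup.centralizer ({z} : Set G))) := Characters.Core.finite_irr
  have := Fintype.ofFinite (IrrCharacter ↥(Subgroup.centralizer ({z} : Set G)))
  have h1 := Blocks.PrincipalSection.sum_principalBlock_section hM z ⟨1, by rw [hz2, pow_one]⟩ rfl
    (y : ↥(Subgroup.centralizer ({z} : Set G))) (y' : ↥(Subgroup.centralizer ({z} : Set G)))
    (by rwa [Subgroup.orderOf_coe]) (by rwa [Subgroup.orderOf_coe])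
  rw [finsum_mem_eq_toFinset_sum, finsum_mem_eq_toFinset_sum] at h1
  have h2 := h.sum_principalBlock hM (fun ξ => (ξ : _ → ℂ) (y : ↥(Subgroup.centralizer ({z} : Set G))) *
    conj ((ξ : _ → ℂ) (y' : ↥(Subgroup.centralizer ({z} : Set G)))))
  refine Eq.trans (Eq.trans (Eq.trans ?_ h1) (Eq.trans ?_ h2)) ?_
  · exact Finset.sum_congr (by ext; simp) fun _ _ => rfl
  · exact Finset.sum_congr (by ext; simp) fun _ _ => rfl
  · rw [Finset.mul_sum]
    refine Finset.sum_congr (by ext; simp) fun ζ _ => ?_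
    rw [h.ext_coe, h.ext_coe, h.ext_coe, h.ext_coe]
    ring

/-- **The principal block does not have five characters.** -/
theorem card_ne_five {M : Ideal AlgInt} (hM : IsPModular 2 M) {z : G}
    {zH : ↥(Subgroup.centralizer ({z} : Set G))} (hz : (zH : G) = z) (hz2 : orderOf z = 2)
    {K : Subgroup ↥(Subgroup.centralizer ({z} : Set G))} (h : Spl zH K) (V : Sylow 2 K)
    (hV : IsKleinFour (V : Subgroup K)) (hone : ∀ s t : K, orderOf s = 2 → orderOf t = 2 → IsConj s t) :
    Nat.card (principalBlock M G) ≠ 5 := by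
  classical
  intro hk
  have := isPrime_of_isPModular hM
  have : Finite (IrrCharacter G) := Characters.Core.finite_irr
  have := Fintype.ofFinite (IrrCharacter G)
  have : Finite (IrrCharacter K) := Characters.Core.finite_irr
  have := Fintype.ofFinite (IrrCharacter K)
  obtain ⟨ζ₂, ζ₃, ζ₄, ε, hε, h2n, h3n, h23, h24, h34, hB, -, -, -, hdeg4, hrel⟩ :=
    S0948.result M hM V hV hone
  have hrank := S4512.result M hM V (by rw [← hV.card_four]) (fun x => by
    have := hV
    exact IsKleinFour.mul_self x) hone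
  obtain ⟨ι, hι⟩ : ∃ ι : IrrCharacter K, (ι : K → ℂ) = fun _ => 1 := ⟨⟨fun _ => 1, isIrrCharacter_one⟩, rfl⟩
  have h2ι : ι ≠ ζ₂ := fun h1 => h2n (by rw [← h1, hι])
  have h3ι : ι ≠ ζ₃ := fun h1 => h3n (by rw [← h1, hι])
  have h4ι : ι ≠ ζ₄ := by
    intro h1
    rw [← h1, charDegree_of_eq (n := 1) (by rw [hι, Nat.cast_one])] at hdeg4
    norm_num at hdeg4
  have hmem : ∀ ζ : IrrCharacter K, ζ ∈ principalBlock M K ↔ ζ = ι ∨ ζ = ζ₂ ∨ ζ = ζ₃ ∨ ζ = ζ₄ := by
    intro ζ
    rw [hB]
    constructor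
    · rintro (h1 | h1)
      · exact Or.inl (Subtype.ext (h1.trans hι.symm))
      · exact Or.inr h1
    · rintro (h1 | h1)
      · exact Or.inl (by rw [h1, hι])
      · exact Or.inr h1
  have hsum : ∀ g : IrrCharacter K → ℂ, ∑ ζ with ζ ∈ principalBlock M K, g ζ = g ι + g ζ₂ + g ζ₃ + g ζ₄ := by
    intro g
    have h1 : (Finset.univ.filter fun ζ : IrrCharacter K => ζ ∈ principalBlock M K) = {ι, ζ₂, ζ₃, ζ₄} := by
      ext ζ
      simp [hmem]
    rw [h1, Finset.sum_insert (by simp [h2ι, h3ι, h4ι]), Finset.sum_insert (by simp [h23, h24]),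
      Finset.sum_insert (by simp [h34]), Finset.sum_singleton]
    ring
  -- the three functions
  let R := {y : K // ¬ 2 ∣ orderOf y}
  let θ : Fin 3 → R → ℂ := fun i y => ![(1 : ℂ), (ζ₂ : K → ℂ) y, (ζ₃ : K → ℂ) y] i
  let E : Fin 3 → ℤ := ![1, 1, ε]
  have hθ4 : ∀ y : R, (ζ₄ : K → ℂ) y = 1 + (ζ₂ : K → ℂ) y + (ε : ℂ) * (ζ₃ : K → ℂ) y := by
    intro y
    have h1 := hrel y (Nat.odd_iff.2 (Nat.two_dvd_ne_zero.1 y.2))
    linear_combination -h1
  have hlin : ∀ c : Fin 3 → ℂ, (∀ y, ∑ i, c i * θ i y = 0) → ∀ i, c i = 0 := by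
    have hreg : ∀ (f : K → ℂ) (y : K) (hy : ¬ 2 ∣ orderOf y), pRegularPart 2 f y = f y :=
      fun f y hy => if_pos hy
    have hnreg : ∀ (f : K → ℂ) (y : K) (hy : 2 ∣ orderOf y), pRegularPart 2 f y = 0 :=
      fun f y hy => if_neg (not_not.2 hy)
    let v : Fin 3 → K → ℂ := ![pRegularPart 2 (fun _ => 1), pRegularPart 2 ζ₂, pRegularPart 2 ζ₃]
    have hv0 : pRegularPart 2 (fun _ : K => (1 : ℂ)) ∈ Submodule.span ℂ (Set.range v) :=
      Submodule.subset_span ⟨0, rfl⟩
    have hv1 : pRegularPart 2 (ζ₂ : K → ℂ) ∈ Submodule.span ℂ (Set.range v) :=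
      Submodule.subset_span ⟨1, rfl⟩
    have hv2 : pRegularPart 2 (ζ₃ : K → ℂ) ∈ Submodule.span ℂ (Set.range v) :=
      Submodule.subset_span ⟨2, rfl⟩
    have hle : Submodule.span ℂ ((fun χ : IrrCharacter K => pRegularPart 2 (χ : K → ℂ)) ''
        (principalBlock M K)) ≤ Submodule.span ℂ (Set.range v) := by
      rw [Submodule.span_le]
      rintro _ ⟨χ, hχ, rfl⟩
      rcases (hmem χ).1 hχ with rfl | rfl | rfl | rfl
      · change pRegularPart 2 (χ : K → ℂ) ∈ _
        rw [hι]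
        exact hv0
      · exact hv1
      · exact hv2
      · have h4 : pRegularPart 2 (χ : K → ℂ) = pRegularPart 2 (fun _ : K => (1 : ℂ)) +
            pRegularPart 2 (ζ₂ : K → ℂ) + (ε : ℂ) • pRegularPart 2 (ζ₃ : K → ℂ) := by
          funext y
          rw [Pi.add_apply, Pi.add_apply, Pi.smul_apply, smul_eq_mul]
          by_cases hy : 2 ∣ orderOf y
          · rw [hnreg _ y hy, hnreg _ y hy, hnreg _ y hy, hnreg _ y hy]
            ring
          · rw [hreg _ y hy, hreg _ y hy, hreg _ y hy, hreg _ y hy]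
            exact hθ4 ⟨y, hy⟩
        change pRegularPart 2 (χ : K → ℂ) ∈ _
        rw [h4]
        exact Submodule.add_mem _ (Submodule.add_mem _ hv0 hv1) (Submodule.smul_mem _ _ hv2)
    have hli : LinearIndependent ℂ v := by
      rw [linearIndependent_iff_card_le_finrank_span]
      rw [Fintype.card_fin]
      have h1 : Module.finrank ℂ ↥(Submodule.span ℂ ((fun χ : IrrCharacter K => pRegularPart 2 (χ : K → ℂ)) ''
        (principalBlock M K))) = 3 := hrank
      have : Finite (Set.range v) := Set.finite_range v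
      have h2 := Submodule.finrank_mono hle
      rw [h1] at h2
      exact h2
    intro c hc
    refine Fintype.linearIndependent_iff.1 hli c ?_
    funext y
    rw [Finset.sum_apply]
    by_cases hy : 2 ∣ orderOf y
    · refine Finset.sum_eq_zero fun i _ => ?_
      rw [Pi.smul_apply]
      have : v i y = 0 := by
        fin_cases i
        · exact hnreg (fun _ => 1) y hy
        · exact hnreg (ζ₂ : K → ℂ) y hy
        · exact hnreg (ζ₃ : K → ℂ) y hy
      rw [this, smul_zero]
    · rw [Pi.zero_apply, ← hc ⟨y, hy⟩]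
      refine Finset.sum_congr rfl fun i _ => ?_
      rw [Pi.smul_apply, smul_eq_mul]
      congr 1
      fin_cases i
      · exact hreg (fun _ => 1) y hy
      · exact hreg (ζ₂ : K → ℂ) y hy
      · exact hreg (ζ₃ : K → ℂ) y hy
  -- the coefficients
  have hcoeff : ∀ χ : IrrCharacter G, ∃ m : Fin 3 → ℤ, χ ∈ principalBlock M G → ∀ y : R,
      (χ : G → ℂ) (z * (((y : K) : ↥(Subgroup.centralizer ({z} : Set G))) : G)) = ∑ i, (m i : ℂ) * θ i y := by
    intro χ
    by_cases hχ : χ ∈ principalBlock M G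
    · obtain ⟨n, hn⟩ := exists_coeff hM hz hz2 h χ hχ
      refine ⟨![n ι + n ζ₄, n ζ₂ + n ζ₄, n ζ₃ + ε * n ζ₄], fun _ y => ?_⟩
      rw [hn y y.2, hsum, hθ4, hι, Fin.sum_univ_three]
      simp only [θ, Matrix.cons_val_zero, Matrix.cons_val_one, Matrix.cons_val_two, Matrix.head_cons,
        Matrix.tail_cons]
      push_cast
      ring
    · exact ⟨0, fun h1 => absurd h1 hχ⟩
  choose m hm using hcoeff
  set T := (principalBlock M G).toFinset with hT
  have hTc : T.card = 5 := by rw [hT, Set.toFinset_card, ← Nat.card_eq_fintype_card, hk]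
  have hgram : ∀ i j, ((∑ χ ∈ T, (m χ i : ℂ) * (m χ j : ℂ)) -
      2 * ((if i = j then 1 else 0) + (E i : ℂ) * (E j : ℂ))) = 0 := by
    refine tens hlin _ fun y y' => ?_
    have h1 := orth hM hz2 h (y : K) (y' : K) y.2 y'.2
    rw [hsum, hθ4, hθ4, hι] at h1
    have h2 : ∑ χ ∈ T, (χ : G → ℂ) (z * (((y : K) : ↥(Subgroup.centralizer ({z} : Set G))) : G)) *
        conj ((χ : G → ℂ) (z * (((y' : K) : ↥(Subgroup.centralizer ({z} : Set G))) : G))) =
        ∑ i, ∑ j, (∑ χ ∈ T, (m χ i : ℂ) * (m χ j : ℂ)) * (θ i y * conj (θ j y')) := by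
      have h3 : ∀ χ ∈ T, (χ : G → ℂ) (z * (((y : K) : ↥(Subgroup.centralizer ({z} : Set G))) : G)) *
        conj ((χ : G → ℂ) (z * (((y' : K) : ↥(Subgroup.centralizer ({z} : Set G))) : G))) =
          ∑ i, ∑ j, ((m χ i : ℂ) * (m χ j : ℂ)) * (θ i y * conj (θ j y')) := by
        intro χ hχ
        rw [hm χ (Set.mem_toFinset.1 hχ) y, hm χ (Set.mem_toFinset.1 hχ) y', map_sum, Finset.sum_mul_sum]
        refine Finset.sum_congr rfl fun i _ => Finset.sum_congr rfl fun j _ => ?_
        rw [map_mul, map_intCast]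
        ring
      rw [Finset.sum_congr rfl h3, Finset.sum_comm]
      refine Finset.sum_congr rfl fun i _ => ?_
      rw [Finset.sum_comm]
      refine Finset.sum_congr rfl fun j _ => ?_
      rw [Finset.sum_mul]
    rw [h2] at h1
    simp only [sub_mul, Finset.sum_sub_distrib]
    rw [h1]
    have e01 : ((0 : Fin 3) = 1) = False := by decide
    have e02 : ((0 : Fin 3) = 2) = False := by decide
    have e10 : ((1 : Fin 3) = 0) = False := by decide
    have e12 : ((1 : Fin 3) = 2) = False := by decide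
    have e20 : ((2 : Fin 3) = 0) = False := by decide
    have e21 : ((2 : Fin 3) = 1) = False := by decide
    simp only [Fin.sum_univ_three, θ, E, Matrix.cons_val_zero, Matrix.cons_val_one, Matrix.cons_val_two,
      Matrix.head_cons, Matrix.tail_cons, map_add, map_mul, map_one, map_intCast, if_true, if_false,
      e01, e02, e10, e12, e20, e21, Int.cast_one]
    ring
  have hint : ∀ i j, ∑ χ ∈ T, m χ i * m χ j = 2 * ((if i = j then 1 else 0) + E i * E j) := by
    intro i j
    have h1 := sub_eq_zero.1 (hgram i j)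
    have h2 : ((∑ χ ∈ T, m χ i * m χ j : ℤ) : ℂ) = ((2 * ((if i = j then 1 else 0) + E i * E j) : ℤ) : ℂ) := by
      push_cast
      exact h1
    exact_mod_cast h2
  -- the row of the principal character
  obtain ⟨κ, hκ⟩ : ∃ κ : IrrCharacter G, (κ : G → ℂ) = fun _ => 1 := ⟨⟨fun _ => 1, isIrrCharacter_one⟩, rfl⟩
  have hκB : κ ∈ principalBlock M G := by
    change SameBlock M (fun _ : G => (1 : ℂ)) (κ : G → ℂ)
    rw [hκ]
    exact sameBlock_refl _
  have hκT : κ ∈ T := Set.mem_toFinset.2 hκB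
  have hrow : ∀ i, (m κ i : ℂ) - (if i = 0 then 1 else 0) = 0 := by
    apply hlin
    intro y
    have h1 := hm κ hκB y
    rw [hκ] at h1
    simp only [sub_mul, Finset.sum_sub_distrib, ← h1, ite_mul, one_mul, zero_mul, Finset.sum_ite_eq',
      Finset.mem_univ, if_true]
    simp [θ]
  have hr0 : m κ 0 = 1 := by
    have := hrow 0
    rw [if_pos rfl, sub_eq_zero] at this
    exact_mod_cast this
  have hr1 : m κ 1 = 0 := by
    have := hrow 1
    rw [if_neg (by decide), sub_zero] at this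
    exact_mod_cast this
  have hr2 : m κ 2 = 0 := by
    have := hrow 2
    rw [if_neg (by decide), sub_zero] at this
    exact_mod_cast this
  have hT' : (T.erase κ).card = 4 := by rw [Finset.card_erase_of_mem hκT, hTc]
  let e4 : Fin 4 ≃ (T.erase κ) := ((T.erase κ).equivFinOfCardEq hT').symm
  have hs4 : ∀ f : IrrCharacter G → ℤ, ∑ i, f (e4 i) = ∑ χ ∈ T, f χ - f κ := by
    intro f
    rw [Equiv.sum_comp e4 (fun χ : (T.erase κ) => f χ), Finset.sum_coe_sort (T.erase κ) f,
      ← Finset.add_sum_erase T f hκT]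
    ring
  have hee : ε * ε = 1 := by rcases hε with rfl | rfl <;> norm_num
  refine arith (fun i => m (e4 i) 0) (fun i => m (e4 i) 1) (fun i => m (e4 i) 2) ?_ ?_ ?_ ?_ ?_ ?_
  · rw [hs4 (fun χ => m χ 0 * m χ 0), hint, hr0]
    simp [E]
  · rw [hs4 (fun χ => m χ 1 * m χ 1), hint, hr1]
    simp [E]
  · rw [hs4 (fun χ => m χ 2 * m χ 2), hint, hr2]
    simp [E, hee]
  · rw [hs4 (fun χ => m χ 0 * m χ 1), hint, hr0, hr1]
    simp [E]
  · rw [hs4 (fun χ => m χ 0 * m χ 2), hint, hr0, hr2]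
    simp [E]
  · rw [hs4 (fun χ => m χ 1 * m χ 2), hint, hr1, hr2]
    rcases hε with rfl | rfl <;> simp [E]

end

end Cfsg.Agent.H61.K5
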