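import Cfsg.Agent.H61.K5.Split
import Cfsg.Agent.S0051

/-!
# The structure of the centralizer of an involution, abelian Sylow subgroup of order 8 (helper61)

* `exists_split` : `H` with a central involution `z`, an abelian Sylow 2-subgroup `P` of order 8 and an element `g` of
  order 3 modulo `C(P)` with `C_P(g) = ⟨z⟩`: `H = ⟨z⟩ × K`, `K` has a Klein four Sylow subgroup and one class of
  involutions;
* `exists_elt` : such an element in a group with `|N(P) : C(P)|` divisible by 3.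
-/

set_option autoImplicit false

open Cfsg Subgroup
open scoped Pointwise

namespace Cfsg.Agent.H61.K5

theorem exists_conj_mem {K : Type*} [Group K] [Finite K] {p : ℕ} [Fact p.Prime] (V : Sylow p K) {t : K}
    (ht : ∃ n : ℕ, orderOf t = p ^ n) : ∃ k : K, k * t * k⁻¹ ∈ V := by
  obtain ⟨n, hn⟩ := ht
  have hp : IsPGroup p (zpowers t) := IsPGroup.of_card (n := n) (by rw [Nat.card_zpowers, hn])
  obtain ⟨Q, hQ⟩ := hp.exists_le_sylow
  obtain ⟨k, hk⟩ := MulAction.exists_smul_eq K Q V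
  refine ⟨k, ?_⟩
  have h1 : t ∈ (Q : Subgroup K) := hQ (mem_zpowers t)
  have h2 : MulAut.conj k • t ∈ MulAut.conj k • (Q : Subgroup K) := smul_mem_pointwise_smul _ _ _ h1
  rw [← Sylow.coe_subgroup_smul, hk] at h2
  exact h2

section split

variable {H : Type*} [Group H] [Finite H] {z g : H} (P : Sylow 2 H)

/-- the norm `x ↦ x x^g x^(g^2)` -/
def nrm (g x : H) : H := x * (g * x * g⁻¹) * (g * (g * x * g⁻¹) * g⁻¹)

omit [Finite H] in
theorem nrm_one : nrm g 1 = 1 := by
  unfold nrm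
  group

theorem exists_split (hzc : ∀ x : H, x * z = z * x) (hz1 : z ≠ 1) (hzz : z * z = 1)
    (hP : Nat.card (P : Subgroup H) = 8) (hab : ∀ a ∈ P, ∀ b ∈ P, a * b = b * a) (hzP : z ∈ P)
    (hg : ∀ x ∈ P, g * x * g⁻¹ ∈ P) (hg3 : ∀ x ∈ P, g ^ 3 * x = x * g ^ 3)
    (hfix : ∀ x ∈ P, g * x * g⁻¹ = x → x = 1 ∨ x = z) :
    ∃ K : Subgroup H, Spl z K ∧ ∃ V : Sylow 2 K, IsKleinFour (V : Subgroup K) ∧
      ∀ s t : K, orderOf s = 2 → orderOf t = 2 → IsConj s t := by
  have : Fact (Nat.Prime 2) := ⟨Nat.prime_two⟩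
  have hs3 : ∀ x ∈ P, g * (g * (g * x * g⁻¹) * g⁻¹) * g⁻¹ = x := by
    intro x hx
    have h1 : g * (g * (g * x * g⁻¹) * g⁻¹) * g⁻¹ = (g ^ 3 * x) * (g ^ 3)⁻¹ := by
      simp only [pow_succ, pow_zero, one_mul, mul_inv_rev, mul_assoc]
    rw [h1, hg3 x hx, mul_inv_cancel_right]
  have hsmul : ∀ x y : H, g * (x * y) * g⁻¹ = (g * x * g⁻¹) * (g * y * g⁻¹) := fun x y => by group
  have hnP : ∀ x ∈ P, nrm g x ∈ P := fun x hx =>
    mul_mem (mul_mem hx (hg x hx)) (hg _ (hg x hx))
  have hnfix : ∀ x ∈ P, nrm g x = 1 ∨ nrm g x = z := by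
    intro x hx
    refine hfix _ (hnP x hx) ?_
    unfold nrm
    rw [hsmul, hsmul, hs3 x hx, mul_assoc x, ← hab _ (mul_mem (hg x hx) (hg _ (hg x hx))) x hx]
  have hnmul : ∀ x ∈ P, ∀ y ∈ P, nrm g (x * y) = nrm g x * nrm g y := by
    intro x hx y hy
    unfold nrm
    rw [hsmul, hsmul]
    have h1 := hg x hx
    have h2 := hg _ h1
    have h3 := hg y hy
    have h4 := hg _ h3
    set x1 := g * x * g⁻¹
    set x2 := g * x1 * g⁻¹
    set y1 := g * y * g⁻¹
    set y2 := g * y1 * g⁻¹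
    calc x * y * (x1 * y1) * (x2 * y2) = x * (y * x1) * (y1 * x2) * y2 := by group
      _ = x * (x1 * y) * (x2 * y1) * y2 := by rw [hab y hy x1 h1, hab y1 h3 x2 h2]
      _ = x * x1 * (y * x2) * y1 * y2 := by group
      _ = x * x1 * (x2 * y) * y1 * y2 := by rw [hab y hy x2 h2]
      _ = x * x1 * x2 * (y * y1 * y2) := by group
  have hsz : g * z * g⁻¹ = z := by rw [hzc, mul_inv_cancel_right]
  have hnz : nrm g z = z := by
    unfold nrm
    rw [hsz, hsz, hzz, one_mul]
  have hn1 : nrm g 1 = 1 := by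
    unfold nrm
    group
  -- the complement in `P`
  let A : Subgroup H :=
    { carrier := {x | x ∈ P ∧ nrm g x = 1}
      mul_mem' := fun {a b} ha hb => ⟨mul_mem ha.1 hb.1, by rw [hnmul a ha.1 b hb.1, ha.2, hb.2, one_mul]⟩
      one_mem' := ⟨one_mem _, hn1⟩
      inv_mem' := fun {a} ha => ⟨inv_mem ha.1, by
        have h1 := hnmul a ha.1 a⁻¹ (inv_mem ha.1)
        rw [mul_inv_cancel, hn1, ha.2, one_mul] at h1
        exact h1.symm⟩ }
  have hA : ∀ x, x ∈ A ↔ x ∈ P ∧ nrm g x = 1 := fun x => Iff.rfl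
  have hzn : (zpowers z).Normal := by
    refine ⟨fun n hn x => ?_⟩
    obtain ⟨k, rfl⟩ := hn
    have h1 : x * z ^ k * x⁻¹ = z ^ k := by
      have h2 : Commute x (z ^ k) := (show Commute x z from hzc x).zpow_right k
      have h3 : x * z ^ k = z ^ k * x := h2
      rw [h3, mul_inv_cancel_right]
    show x * z ^ k * x⁻¹ ∈ _
    rw [h1]
    exact zpow_mem (mem_zpowers z) k
  have hord : orderOf z = 2 := orderOf_eq_prime (by rw [pow_two, hzz]) hz1
  have hzpow : ∀ x ∈ zpowers z, x = 1 ∨ x = z := by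
    intro x hx
    obtain ⟨k, rfl⟩ := hx
    show z ^ k = 1 ∨ z ^ k = z
    have h2 : z ^ (2 : ℤ) = 1 := by
      rw [show (2 : ℤ) = 1 + 1 by norm_num, zpow_add, zpow_one, hzz]
    rcases Int.even_or_odd' k with ⟨l, rfl | rfl⟩
    · left
      rw [zpow_mul, h2, one_zpow]
    · right
      rw [zpow_add, zpow_mul, h2, one_zpow, one_mul, zpow_one]
  have hzP' : zpowers z ≤ (P : Subgroup H) := (zpowers_le).2 hzP
  have hAz : A ⊓ zpowers z = ⊥ := by
    rw [eq_bot_iff]
    rintro x ⟨hx1, hx2⟩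
    rcases hzpow x hx2 with rfl | rfl
    · exact one_mem _
    · exact absurd (hnz.symm.trans ((hA _).1 hx1).2) hz1
  have hsup : zpowers z ⊔ A = (P : Subgroup H) := by
    apply le_antisymm
    · exact sup_le hzP' fun x hx => ((hA x).1 hx).1
    · intro x hx
      rcases hnfix x hx with h1 | h1
      · exact mem_sup_right ⟨hx, h1⟩
      · have h2 : x = z * (z * x) := by rw [← mul_assoc, hzz, one_mul]
        rw [h2]
        refine mul_mem (mem_sup_left (mem_zpowers z)) (mem_sup_right ⟨mul_mem hzP hx, ?_⟩)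
        rw [hnmul z hzP x hx, hnz, h1, hzz]
  obtain ⟨K, hK⟩ := S0051.result (zpowers z) (P : Subgroup H) hzP' (by
    rw [Nat.card_zpowers, hord]
    exact (Nat.Prime.coprime_iff_not_dvd Nat.prime_two).2 P.not_dvd_index) A
    (fun x hx => ((hA x).1 hx).1) hAz hsup
  have hidx : K.index = 2 := by rw [hK.index_eq_card, Nat.card_zpowers, hord]
  have hzK : z ∉ K := by
    intro h1
    exact hz1 (Subgroup.disjoint_def.1 hK.disjoint (mem_zpowers z) h1)
  have sp : Spl z K := ⟨hzc, hzz, fun a b => Subgroup.mul_mem_iff_of_index_two hidx, hzK⟩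
  have hKn : K.Normal := Subgroup.normal_of_index_eq_two hidx
  refine ⟨K, sp, P.mapSurjective sp.proj_surjective, ?_⟩
  set V : Sylow 2 K := P.mapSurjective sp.proj_surjective with hV
  have hVmem : ∀ k : K, k ∈ V ↔ (k : H) ∈ P := by
    intro k
    constructor
    · intro hk
      obtain ⟨x, hx, hxk⟩ : ∃ x ∈ (P : Subgroup H), sp.proj x = k := hk
      rw [← hxk]
      rcases sp.decomp x with h1 | h1
      · rw [← h1]
        exact hx
      · have h2 : (sp.proj x : H) = z * x := by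
          calc (sp.proj x : H) = z * (z * (sp.proj x : H)) := by rw [← mul_assoc, hzz, one_mul]
            _ = z * x := by rw [← h1]
        rw [h2]
        exact mul_mem hzP hx
    · intro hk
      exact ⟨(k : H), hk, sp.proj_coe k⟩
  -- the order of `V`
  have hVcard : Nat.card (V : Subgroup K) = 4 := by
    have h1 : Nat.card (V : Subgroup K) = sp.proj.ker.relIndex (P : Subgroup H) :=
      (Subgroup.relIndex_ker (P : Subgroup H) sp.proj).symm
    have h2 : sp.proj.ker = zpowers z := by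
      ext x
      constructor
      · intro hx
        have h3 : sp.proj x = 1 := hx
        have h4 := sp.decomp x
        rw [h3, Subgroup.coe_one, mul_one] at h4
        rcases h4 with rfl | rfl
        · exact one_mem _
        · exact mem_zpowers _
      · intro hx
        rcases hzpow x hx with rfl | rfl
        · exact one_mem _
        · exact sp.proj_z
    have h3 := Subgroup.relIndex_mul_relIndex ⊥ (zpowers z) (P : Subgroup H) bot_le hzP'
    rw [relIndex_bot_left, relIndex_bot_left] at h3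
    rw [h2] at h1
    rw [← h1, hP, Nat.card_zpowers, hord] at h3
    omega
  -- conjugation by `g` is conjugation by an element of `K`
  have hgk : ∀ x : H, g * x * g⁻¹ = (sp.proj g : H) * x * (sp.proj g : H)⁻¹ := by
    intro x
    rcases sp.decomp g with h1 | h1
    · rw [← h1]
    · set k := (sp.proj g : H)
      rw [h1, mul_inv_rev]
      calc z * k * x * (k⁻¹ * z⁻¹) = z * (k * x * k⁻¹) * z⁻¹ := by group
        _ = k * x * k⁻¹ := by rw [← hzc, mul_inv_cancel_right]
  set k := sp.proj g with hk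
  have hkV : ∀ v : K, v ∈ V → k * v * k⁻¹ ∈ V := by
    intro v hv
    rw [hVmem] at hv ⊢
    have h1 := hg _ hv
    rw [hgk] at h1
    exact h1
  have hkfix : ∀ v : K, v ∈ V → k * v * k⁻¹ = v → v = 1 := by
    intro v hv h1
    have h2 := congrArg Subtype.val h1
    have h3 : g * (v : H) * g⁻¹ = v := (hgk v).trans h2
    rcases hfix v ((hVmem v).1 hv) h3 with h4 | h4
    · exact Subtype.ext h4
    · exact absurd (h4 ▸ v.2) hzK
  have hk3 : ∀ v : K, v ∈ V → k * (k * (k * v * k⁻¹) * k⁻¹) * k⁻¹ = v := by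
    intro v hv
    apply Subtype.ext
    have h1 := hs3 v ((hVmem v).1 hv)
    rw [hgk, hgk, hgk] at h1
    exact h1
  -- an involution of `V`
  obtain ⟨v₀, hv₀⟩ : ∃ v : (V : Subgroup K), orderOf v = 2 := by
    have := exists_prime_orderOf_dvd_card' (G := (V : Subgroup K)) 2 (by rw [hVcard]; norm_num)
    exact this
  obtain ⟨v, hv⟩ : ∃ v : K, v = (v₀ : K) := ⟨_, rfl⟩
  have hvV : v ∈ V := hv ▸ v₀.2
  have hv2 : orderOf v = 2 := by rw [hv, Subgroup.orderOf_coe, hv₀]
  have hv1 : v ≠ 1 := by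
    intro h1
    rw [h1, orderOf_one] at hv2
    omega
  have hall : ∀ w : K, w ∈ V → w = 1 ∨ w = v ∨ w = k * v * k⁻¹ ∨ w = k * (k * v * k⁻¹) * k⁻¹ := by
    have hinj : ∀ a b : K, k * a * k⁻¹ = k * b * k⁻¹ → a = b := fun a b h1 =>
      mul_left_cancel (mul_right_cancel h1)
    have hne1 : ∀ a : K, a ≠ 1 → k * a * k⁻¹ ≠ 1 := by
      intro a ha h1
      apply ha
      apply hinj
      rw [h1, mul_one, mul_inv_cancel]
    have hV1 := hkV v hvV
    have hV2 := hkV _ hV1
    have d1 := hne1 v hv1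
    have d2 := hne1 _ d1
    have d3 : k * v * k⁻¹ ≠ v := fun h1 => hv1 (hkfix v hvV h1)
    have d4 : k * (k * v * k⁻¹) * k⁻¹ ≠ k * v * k⁻¹ := fun h1 => d3 (hinj _ _ h1)
    have d5 : k * (k * v * k⁻¹) * k⁻¹ ≠ v := by
      intro h1
      have h2 := hk3 v hvV
      rw [h1] at h2
      exact d3 h2
    set a := k * v * k⁻¹
    set b := k * a * k⁻¹
    let S : Set (V : Subgroup K) := {1, ⟨v, hvV⟩, ⟨a, hV1⟩, ⟨b, hV2⟩}
    have hS : S.ncard = 4 := by
      have e1 : (1 : (V : Subgroup K)) ≠ ⟨v, hvV⟩ := fun h1 => hv1 (congrArg Subtype.val h1).symm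
      have e2 : (1 : (V : Subgroup K)) ≠ ⟨a, hV1⟩ := fun h1 => d1 (congrArg Subtype.val h1).symm
      have e3 : (1 : (V : Subgroup K)) ≠ ⟨b, hV2⟩ := fun h1 => d2 (congrArg Subtype.val h1).symm
      have e4 : (⟨v, hvV⟩ : (V : Subgroup K)) ≠ ⟨a, hV1⟩ := fun h1 => d3 (congrArg Subtype.val h1).symm
      have e5 : (⟨v, hvV⟩ : (V : Subgroup K)) ≠ ⟨b, hV2⟩ := fun h1 => d5 (congrArg Subtype.val h1).symm
      have e6 : (⟨a, hV1⟩ : (V : Subgroup K)) ≠ ⟨b, hV2⟩ := fun h1 => d4 (congrArg Subtype.val h1).symm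
      rw [Set.ncard_insert_of_notMem (by simp [e1, e2, e3]), Set.ncard_insert_of_notMem (by simp [e4, e5]),
        Set.ncard_pair e6]
    have hSu : S = Set.univ := by
      refine Set.eq_of_subset_of_ncard_le (Set.subset_univ _) ?_
      rw [hS, Set.ncard_univ, hVcard]
    intro w hw
    have h1 : (⟨w, hw⟩ : (V : Subgroup K)) ∈ S := by rw [hSu]; trivial
    rcases h1 with h1 | h1 | h1 | h1
    · exact Or.inl (congrArg Subtype.val h1)
    · exact Or.inr (Or.inl (congrArg Subtype.val h1))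
    · exact Or.inr (Or.inr (Or.inl (congrArg Subtype.val h1)))
    · exact Or.inr (Or.inr (Or.inr (congrArg Subtype.val h1)))
  have hconj : ∀ w : K, w ∈ V → w ≠ 1 → IsConj v w := by
    intro w hw hw1
    rcases hall w hw with h1 | h1 | h1 | h1
    · exact absurd h1 hw1
    · rw [h1]
    · exact isConj_iff.2 ⟨k, h1.symm⟩
    · exact isConj_iff.2 ⟨k * k, by rw [h1]; group⟩
  refine ⟨⟨hVcard, ?_⟩, ?_⟩
  · have : Nontrivial (V : Subgroup K) := ⟨⟨v₀, 1, fun h1 => hv1 (by rw [hv, h1]; rfl)⟩⟩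
    rw [Monoid.exponent_eq_prime_iff Nat.prime_two]
    intro w hw
    have h1 : IsConj v (w : K) := hconj w w.2 fun h2 => hw (Subtype.ext h2)
    obtain ⟨c, hc⟩ := isConj_iff.1 h1
    have h2 : orderOf (w : K) = orderOf v := by
      rw [← hc]
      exact (MulEquiv.orderOf_eq (MulAut.conj c) v)
    rw [← Subgroup.orderOf_coe, h2, hv2]
  · have hred : ∀ s : K, orderOf s = 2 → IsConj v s := by
      intro s hs
      obtain ⟨c, hc⟩ := exists_conj_mem V (t := s) ⟨1, by rw [hs, pow_one]⟩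
      have h1 : c * s * c⁻¹ ≠ 1 := by
        intro h2
        have h3 : s = 1 := by
          have h4 : c * s * c⁻¹ = c * 1 * c⁻¹ := by rw [h2]; group
          exact mul_left_cancel (mul_right_cancel h4)
        rw [h3, orderOf_one] at hs
        omega
      exact (hconj _ hc h1).trans (isConj_iff.2 ⟨c, rfl⟩).symm
    intro s t hs ht
    exact (hred s hs).symm.trans (hred t ht)

end split

/-- An element of order 3 modulo `C(P)`. -/
theorem exists_elt {G : Type*} [Group G] [Finite G] (P : Subgroup G) (hP : Nat.card P = 8)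
    (h3 : 3 ∣ (centralizer (P : Set G)).relIndex (normalizer (P : Set G))) :
    ∃ g z : G, (∀ x ∈ P, g * x * g⁻¹ ∈ P) ∧ (∀ x ∈ P, g ^ 3 * x = x * g ^ 3) ∧ z ∈ P ∧ z ≠ 1 ∧ z * z = 1 ∧
      g * z * g⁻¹ = z ∧ ∀ x ∈ P, g * x * g⁻¹ = x → x = 1 ∨ x = z := by
  have : Fact (Nat.Prime 3) := ⟨Nat.prime_three⟩
  have hcard : Nat.card P.normalizerMonoidHom.range =
      (centralizer (P : Set G)).relIndex (normalizer (P : Set G)) := by
    rw [← Subgroup.index_ker, Subgroup.normalizerMonoidHom_ker]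
    rfl
  obtain ⟨σ, hσ⟩ := exists_prime_orderOf_dvd_card' (G := P.normalizerMonoidHom.range) 3 (by rwa [hcard])
  obtain ⟨g, hg⟩ := σ.2
  have hgP : ∀ x (hx : x ∈ P), (g : G) * x * (g : G)⁻¹ ∈ P := fun x hx => (mem_normalizer_iff.1 g.2 x).1 hx
  have hact : ∀ x : P, ((σ : MulAut P) x : G) = g * x * (g : G)⁻¹ := by
    intro x
    rw [← hg]
    rfl
  have hσo : orderOf (σ : MulAut P) = 3 := by rw [Subgroup.orderOf_coe, hσ]
  obtain ⟨τ, hτ⟩ : ∃ τ : MulAut P, τ = (σ : MulAut P) := ⟨_, rfl⟩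
  rw [← hτ] at hσo hact hg
  let F : Subgroup P :=
    { carrier := {x | τ x = x}
      mul_mem' := fun {a b} ha hb => by
        change τ (a * b) = a * b
        rw [map_mul]
        exact congrArg₂ _ ha hb
      one_mem' := map_one τ
      inv_mem' := fun {a} ha => by
        change τ a⁻¹ = a⁻¹
        rw [map_inv]
        exact congrArg _ ha }
  have hF : ∀ x, x ∈ F ↔ τ x = x := fun x => Iff.rfl
  have hfp : MulAction.fixedPoints (zpowers τ) P = (F : Set P) := by
    ext x
    constructor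
    · intro hx
      exact hx ⟨τ, mem_zpowers τ⟩
    · intro hx m
      have h1 : zpowers τ ≤ MulAction.stabilizer (MulAut P) x := (zpowers_le).2 hx
      exact h1 m.2
  have hpg : IsPGroup 3 (zpowers τ) := IsPGroup.of_card (n := 1) (by rw [Nat.card_zpowers, hσo, pow_one])
  have hmod := hpg.card_modEq_card_fixedPoints P
  rw [hfp, hP] at hmod
  have hmod' : 8 ≡ Nat.card F [MOD 3] := hmod
  have hdvd : Nat.card F ∣ 8 := hP ▸ Subgroup.card_subgroup_dvd_card F
  have hne8 : Nat.card F ≠ 8 := by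
    intro h1
    have h2 : F = ⊤ := Subgroup.eq_top_of_card_eq F (by rw [h1, hP])
    have h4 : τ = 1 := by
      apply MulEquiv.ext
      intro x
      have h5 : x ∈ F := by rw [h2]; trivial
      exact h5
    rw [h4, orderOf_one] at hσo
    omega
  have hF2 : Nat.card F = 2 := by
    have h1 : Nat.card F ≤ 8 := Nat.le_of_dvd (by norm_num) hdvd
    unfold Nat.ModEq at hmod'
    have h2 : 0 < Nat.card F := Nat.card_pos
    generalize Nat.card F = n at *
    interval_cases n <;> omega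
  obtain ⟨z, hz, hzu⟩ := (Nat.card_eq_two_iff' (1 : F)).1 hF2
  have hz1 : ((z : P) : G) ≠ 1 := fun h1 => hz (Subtype.ext (Subtype.ext h1))
  have hzz : ((z : P) : G) * ((z : P) : G) = 1 := by
    have h1 : z ^ 2 = 1 := by
      rw [← hF2]
      exact pow_card_eq_one'
    have h2 := congrArg (fun w : F => ((w : P) : G)) h1
    simpa [pow_two] using h2
  refine ⟨g, (z : P), hgP, ?_, (z : P).2, hz1, hzz, ?_, ?_⟩
  · intro x hx
    have h1 : (P.normalizerMonoidHom g) ^ 3 = 1 := by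
      rw [hg, ← hσo, pow_orderOf_eq_one]
    rw [← map_pow] at h1
    have h2 := congrArg (fun f : MulAut P => ((f ⟨x, hx⟩ : P) : G)) h1
    have h4 : ((g : G) ^ 3) * x * ((g : G) ^ 3)⁻¹ = x := h2
    exact mul_inv_eq_iff_eq_mul.1 h4
  · rw [← hact]
    exact congrArg Subtype.val z.2
  · intro x hx hgx
    by_cases h1 : x = 1
    · exact Or.inl h1
    · right
      have h2 : (⟨x, hx⟩ : P) ∈ F := by
        rw [hF]
        exact Subtype.ext ((hact ⟨x, hx⟩).trans hgx)
      have h5 := hzu ⟨⟨x, hx⟩, h2⟩ (fun h6 => h1 (congrArg (fun w : F => ((w : P) : G)) h6))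
      exact congrArg (fun w : F => ((w : P) : G)) h5

end Cfsg.Agent.H61.K5
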