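import Cfsg.Agent.H844.K5.Base
import Cfsg.Agent.H61.K5.Sect
import Cfsg.Agent.H61.K5.Struct

/-!
# S4874, `p = 2`: T20 ABEL8-b (helper61)

`abel_b` : `|P| = 8`, `P` abelian, `|N(P) : C(P)| = 21`: the principal 2-block does not have five characters.
(`ne_five` : only `3 ∣ |N(P) : C(P)|` is used.)
-/

set_option autoImplicit false

open Cfsg Subgroup Cfsg.Agent.H844.K5

namespace Cfsg.Agent.H61.K5

universe u

variable {G : Type u} [Group G] [Finite G] {M : Ideal AlgInt}

/-- An abelian Sylow 2-subgroup of order 8 with `3 ∣ |N(P) : C(P)|`. -/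
theorem ne_five (hM : IsPModular 2 M) (P : Sylow 2 G) (hP : Nat.card (P : Subgroup G) = 8)
    (hab : ∀ a ∈ P, ∀ b ∈ P, a * b = b * a)
    (h3 : 3 ∣ (centralizer ((P : Subgroup G) : Set G)).relIndex (normalizer ((P : Subgroup G) : Set G))) :
    Nat.card (principalBlock M G) ≠ 5 := by
  obtain ⟨g, z, hg, hg3, hzP, hz1, hzz, hgz, hfix⟩ := exists_elt (P : Subgroup G) hP h3
  have hPH : (P : Subgroup G) ≤ centralizer ({z} : Set G) := by
    intro x hx
    exact mem_centralizer_singleton_iff.2 (hab x hx z hzP)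
  have hgH : g ∈ centralizer ({z} : Set G) := by
    rw [mem_centralizer_singleton_iff]
    exact mul_inv_eq_iff_eq_mul.1 hgz
  have hzH : z ∈ centralizer ({z} : Set G) := hPH hzP
  have hord : orderOf z = 2 := orderOf_eq_prime (by rw [pow_two, hzz]) hz1
  have hmem : ∀ x : ↥(centralizer ({z} : Set G)), x ∈ P.subtype hPH ↔ (x : G) ∈ P := fun x => Iff.rfl
  have hcard : Nat.card ((P.subtype hPH : Sylow 2 ↥(centralizer ({z} : Set G))) :
      Subgroup ↥(centralizer ({z} : Set G))) = 8 := by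
    rw [← hP]
    exact Nat.card_congr (Subgroup.subgroupOfEquivOfLe hPH).toEquiv
  obtain ⟨K, sp, V, hV, hone⟩ := exists_split (z := (⟨z, hzH⟩ : ↥(centralizer ({z} : Set G))))
    (g := (⟨g, hgH⟩ : ↥(centralizer ({z} : Set G)))) (P.subtype hPH)
    (fun x => Subtype.ext (mem_centralizer_singleton_iff.1 x.2))
    (fun h1 => hz1 (congrArg Subtype.val h1)) (Subtype.ext hzz) hcard
    (fun a ha b hb => Subtype.ext (hab a ((hmem a).1 ha) b ((hmem b).1 hb)))
    ((hmem _).2 hzP)
    (fun x hx => (hmem _).2 (hg x ((hmem x).1 hx)))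
    (fun x hx => Subtype.ext (hg3 x ((hmem x).1 hx)))
    (fun x hx h1 => by
      rcases hfix x ((hmem x).1 hx) (congrArg Subtype.val h1) with h2 | h2
      · exact Or.inl (Subtype.ext h2)
      · exact Or.inr (Subtype.ext h2))
  exact card_ne_five hM (zH := ⟨z, hzH⟩) rfl hord sp V hV hone

theorem abel_b (hM : IsPModular 2 M) (h : Five M G) (P : Sylow 2 G) (hP : Nat.card (P : Subgroup G) = 8)
    (hab : ∀ a ∈ P, ∀ b ∈ P, a * b = b * a)
    (h21 : (centralizer ((P : Subgroup G) : Set G)).relIndex (normalizer ((P : Subgroup G) : Set G)) = 21) :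
    False :=
  ne_five hM P hP hab (by rw [h21]; norm_num) h.card

end Cfsg.Agent.H61.K5
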