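import Mathlib
import Cfsg.Prelude.Def_Blocks
import Cfsg.Agent.Characters.Core
import Cfsg.Agent.Blocks.Basic
import Cfsg.Agent.Blocks.Local
import Cfsg.Agent.Blocks.Deflate
import Cfsg.Agent.Blocks.Central
import Cfsg.Agent.Blocks.CentralizerSum
import Cfsg.Agent.OddOrderCharacters.InertiaAbelian

/-!
# Blocks of `H = ⟨z⟩ × K`, `z` an involution (helper61)

* `Spl z K` : `H = ⟨z⟩ × K`, `z` a central involution;
* `Spl.ext b ζ` : the two extensions of an irreducible character of `K`;
* `Spl.sum_principalBlock` : a sum over the principal 2-block of `H` as a sum over the principal block of `K`.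
-/

set_option autoImplicit false

open Cfsg Cfsg.Agent.Blocks.Basic Cfsg.Agent.Blocks.Local
open scoped ComplexConjugate

namespace Cfsg.Agent.H61.K5

/-- `H = ⟨z⟩ × K` with a central involution `z`. -/
structure Spl {H : Type*} [Group H] (z : H) (K : Subgroup H) : Prop where
  cen : ∀ x : H, x * z = z * x
  sq : z * z = 1
  mul_mem : ∀ a b : H, a * b ∈ K ↔ (a ∈ K ↔ b ∈ K)
  nmem : z ∉ K

namespace Spl

variable {H : Type*} [Group H] {z : H} {K : Subgroup H}

theorem z_mul_mem (h : Spl z K) {x : H} (hx : x ∉ K) : z * x ∈ K :=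
  (h.mul_mem z x).2 (iff_of_false h.nmem hx)

open Classical in
/-- The projection to `K`. -/
noncomputable def proj (h : Spl z K) : H →* K :=
  MonoidHom.mk' (fun x => if hx : x ∈ K then ⟨x, hx⟩ else ⟨z * x, h.z_mul_mem hx⟩) (by
    intro a b
    apply Subtype.ext
    by_cases ha : a ∈ K <;> by_cases hb : b ∈ K
    · have hab : a * b ∈ K := K.mul_mem ha hb
      simp only [dif_pos ha, dif_pos hb, dif_pos hab, Subgroup.coe_mul]
    · have hab : a * b ∉ K := fun h1 => hb (((h.mul_mem a b).1 h1).1 ha)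
      simp only [dif_pos ha, dif_neg hb, dif_neg hab, Subgroup.coe_mul]
      rw [← mul_assoc, ← mul_assoc, h.cen]
    · have hab : a * b ∉ K := fun h1 => ha (((h.mul_mem a b).1 h1).2 hb)
      simp only [dif_neg ha, dif_pos hb, dif_neg hab, Subgroup.coe_mul]
      rw [mul_assoc]
    · have hab : a * b ∈ K := (h.mul_mem a b).2 (iff_of_false ha hb)
      simp only [dif_neg ha, dif_neg hb, dif_pos hab, Subgroup.coe_mul]
      rw [show z * a * (z * b) = z * (a * z) * b by group, h.cen a, ← mul_assoc, h.sq, one_mul])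

theorem proj_of_mem (h : Spl z K) {x : H} (hx : x ∈ K) : h.proj x = ⟨x, hx⟩ := by
  classical
  exact dif_pos hx

theorem proj_of_not_mem (h : Spl z K) {x : H} (hx : x ∉ K) : h.proj x = ⟨z * x, h.z_mul_mem hx⟩ := by
  classical
  exact dif_neg hx

theorem proj_coe (h : Spl z K) (k : K) : h.proj (k : H) = k := h.proj_of_mem k.2

theorem proj_surjective (h : Spl z K) : Function.Surjective h.proj := fun k => ⟨k, h.proj_coe k⟩

theorem proj_z (h : Spl z K) : h.proj z = 1 := by
  rw [h.proj_of_not_mem h.nmem]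
  exact Subtype.ext h.sq

open Classical in
/-- The sign character with kernel `K`. -/
noncomputable def sgn (h : Spl z K) : H →* ℂˣ :=
  MonoidHom.mk' (fun x => if x ∈ K then 1 else -1) (by
    intro a b
    by_cases ha : a ∈ K <;> by_cases hb : b ∈ K
    · have hab : a * b ∈ K := K.mul_mem ha hb
      simp only [if_pos ha, if_pos hb, if_pos hab, mul_one]
    · have hab : a * b ∉ K := fun h1 => hb (((h.mul_mem a b).1 h1).1 ha)
      simp only [if_pos ha, if_neg hb, if_neg hab, one_mul]
    · have hab : a * b ∉ K := fun h1 => ha (((h.mul_mem a b).1 h1).2 hb)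
      simp only [if_neg ha, if_pos hb, if_neg hab, mul_one]
    · have hab : a * b ∈ K := (h.mul_mem a b).2 (iff_of_false ha hb)
      simp only [if_neg ha, if_neg hb, if_pos hab, neg_mul_neg, mul_one])

theorem sgn_of_mem (h : Spl z K) {x : H} (hx : x ∈ K) : (h.sgn x : ℂ) = 1 := by
  classical
  have h1 : h.sgn x = 1 := if_pos hx
  rw [h1, Units.val_one]

theorem sgn_of_not_mem (h : Spl z K) {x : H} (hx : x ∉ K) : (h.sgn x : ℂ) = -1 := by
  classical
  have h1 : h.sgn x = -1 := if_neg hx
  rw [h1, Units.val_neg, Units.val_one]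

theorem decomp (h : Spl z K) (x : H) : x = (h.proj x : H) ∨ x = z * (h.proj x : H) := by
  by_cases hx : x ∈ K
  · left
    rw [h.proj_of_mem hx]
  · right
    rw [h.proj_of_not_mem hx]
    rw [← mul_assoc, h.sq, one_mul]

theorem index_centralizer (h : Spl z K) (x : H) : (Subgroup.centralizer ({x} : Set H)).index =
    (Subgroup.centralizer ({h.proj x} : Set K)).index := by
  rw [← Subgroup.index_comap_of_surjective _ h.proj_surjective]
  congr 1
  ext y
  rw [Subgroup.mem_comap, Subgroup.mem_centralizer_singleton_iff,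
    Subgroup.mem_centralizer_singleton_iff]
  constructor
  · intro h1
    rw [← map_mul, h1, map_mul]
  · intro h1
    have h2 : (h.proj y : H) * (h.proj x : H) = (h.proj x : H) * (h.proj y : H) :=
      congrArg Subtype.val h1
    have hz : ∀ x : H, Commute z x := fun x => (h.cen x).symm
    have h3 : Commute (h.proj y : H) (h.proj x : H) := h2
    have h4 : Commute y (h.proj x : H) := by
      rcases h.decomp y with hy | hy <;> rw [hy]
      · exact h3
      · exact (hz _).mul_left h3
    rcases h.decomp x with hx | hx <;> rw [hx]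
    · exact h4
    · exact ((hz y).symm.mul_right h4)

section ext

variable [Finite H]

/-- The two extensions of an irreducible character of `K`. -/
noncomputable def ext (h : Spl z K) (b : Bool) (ζ : IrrCharacter K) : IrrCharacter H :=
  ⟨fun x => ((if b then h.sgn else 1 : H →* ℂˣ) x : ℂ) * (ζ : K → ℂ) (h.proj x),
    OddOrderCharacters.InertiaAbelian.isIrr_mul_hom (if b then h.sgn else 1 : H →* ℂˣ)
      (Characters.Core.isIrr_comp h.proj h.proj_surjective ζ.2)⟩

theorem ext_false (h : Spl z K) (ζ : IrrCharacter K) (x : H) :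
    (h.ext false ζ : H → ℂ) x = (ζ : K → ℂ) (h.proj x) := by
  change ((if false then h.sgn else 1 : H →* ℂˣ) x : ℂ) * (ζ : K → ℂ) (h.proj x) = _
  simp

theorem ext_true (h : Spl z K) (ζ : IrrCharacter K) (x : H) :
    (h.ext true ζ : H → ℂ) x = (h.sgn x : ℂ) * (ζ : K → ℂ) (h.proj x) := by
  change ((if true then h.sgn else 1 : H →* ℂˣ) x : ℂ) * (ζ : K → ℂ) (h.proj x) = _
  simp

theorem ext_coe (h : Spl z K) (b : Bool) (ζ : IrrCharacter K) (k : K) :
    (h.ext b ζ : H → ℂ) (k : H) = (ζ : K → ℂ) k := by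
  cases b
  · rw [ext_false, proj_coe]
  · rw [ext_true, proj_coe, h.sgn_of_mem k.2, one_mul]

theorem ext_apply_z (h : Spl z K) (b : Bool) (ζ : IrrCharacter K) :
    (h.ext b ζ : H → ℂ) z = (if b then -1 else 1) * (ζ : K → ℂ) 1 := by
  cases b
  · rw [ext_false, proj_z]
    simp
  · rw [ext_true, proj_z, h.sgn_of_not_mem h.nmem]
    simp

theorem ext_injective (h : Spl z K) {b b' : Bool} {ζ ζ' : IrrCharacter K}
    (he : h.ext b ζ = h.ext b' ζ') : b = b' ∧ ζ = ζ' := by
  have h1 : ζ = ζ' := by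
    apply Subtype.ext
    funext k
    rw [← h.ext_coe b ζ k, he, h.ext_coe]
  subst h1
  refine ⟨?_, rfl⟩
  have h2 : (h.ext b ζ : H → ℂ) z = (h.ext b' ζ : H → ℂ) z := by rw [he]
  rw [ext_apply_z, ext_apply_z] at h2
  have h3 := mul_right_cancel₀ (irr_one_ne_zero ζ.2) h2
  revert h3
  cases b <;> cases b' <;> norm_num

/-- An irreducible character trivial on `z` is inflated from `K`. -/
theorem exists_of_trivial (h : Spl z K) (ξ : IrrCharacter H)
    (hξ : ∀ x : H, (ξ : H → ℂ) (z * x) = (ξ : H → ℂ) x) : ∃ ζ : IrrCharacter K, ξ = h.ext false ζ := by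
  have := Fintype.ofFinite h.proj.ker
  have hker : ∀ x ∈ h.proj.ker, x = 1 ∨ x = z := by
    intro x hx
    have h1 : h.proj x = 1 := hx
    have h2 := h.decomp x
    rw [h1, Subgroup.coe_one, mul_one] at h2
    exact h2
  have hz1 : (ξ : H → ℂ) z = (ξ : H → ℂ) 1 := by
    have := hξ 1
    rwa [mul_one] at this
  obtain ⟨χ', hχ'⟩ := Cfsg.Agent.Blocks.Deflate.exists_deflation h.proj.ker (ξ : H → ℂ) ξ.2 (by
    rw [Finset.sum_congr rfl fun n _ => show (ξ : H → ℂ) ((n : h.proj.ker) : H) = (ξ : H → ℂ) 1 by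
      rcases hker n n.2 with h1 | h1 <;> rw [h1]
      exact hz1, Finset.sum_const, nsmul_eq_mul]
    refine mul_ne_zero ?_ (irr_one_ne_zero ξ.2)
    exact Nat.cast_ne_zero.2 (Finset.card_ne_zero.2 ⟨1, Finset.mem_univ _⟩))
  let e := QuotientGroup.quotientKerEquivOfSurjective h.proj h.proj_surjective
  refine ⟨⟨(χ' : H ⧸ h.proj.ker → ℂ) ∘ e.symm.toMonoidHom,
    Characters.Core.isIrr_comp e.symm.toMonoidHom e.symm.surjective χ'.2⟩, ?_⟩
  apply Subtype.ext
  funext x
  rw [ext_false]
  have h1 : e.symm (h.proj x) = (x : H ⧸ h.proj.ker) := by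
    rw [MulEquiv.symm_apply_eq]
    rfl
  change (ξ : H → ℂ) x = (χ' : H ⧸ h.proj.ker → ℂ) (e.symm (h.proj x))
  rw [h1, hχ']
  rfl

theorem z_mul (h : Spl z K) (ξ : IrrCharacter H) :
    (∀ x : H, (ξ : H → ℂ) (z * x) = (ξ : H → ℂ) x) ∨ ∀ x : H, (ξ : H → ℂ) (z * x) = -(ξ : H → ℂ) x := by
  obtain ⟨c, -, hc⟩ := Blocks.CentralizerSum.exists_central_scalar ξ.2
    (z := z) (Subgroup.mem_center_iff.2 h.cen)
  have h1 : c * c = 1 := by
    have h2 := hc (z * 1)
    rw [hc 1, ← mul_assoc, h.sq, one_mul, ← mul_assoc] at h2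
    have h3 := irr_one_ne_zero ξ.2
    have h4 : (c * c - 1) * (ξ : H → ℂ) 1 = 0 := by linear_combination -h2
    rcases mul_eq_zero.1 h4 with h5 | h5
    · linear_combination h5
    · exact absurd h5 h3
  have h2 : (c - 1) * (c + 1) = 0 := by linear_combination h1
  rcases mul_eq_zero.1 h2 with h3 | h3
  · left
    intro x
    rw [hc, show c = 1 by linear_combination h3, one_mul]
  · right
    intro x
    rw [hc, show c = -1 by linear_combination h3, neg_one_mul]

theorem ext_surjective (h : Spl z K) (ξ : IrrCharacter H) : ∃ b ζ, ξ = h.ext b ζ := by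
  rcases h.z_mul ξ with h1 | h1
  · obtain ⟨ζ, hζ⟩ := h.exists_of_trivial ξ h1
    exact ⟨false, ζ, hζ⟩
  · have hs : ∀ x : H, (h.sgn x : ℂ) * (h.sgn x : ℂ) = 1 := by
      intro x
      by_cases hx : x ∈ K
      · rw [h.sgn_of_mem hx, one_mul]
      · rw [h.sgn_of_not_mem hx]; norm_num
    obtain ⟨ζ, hζ⟩ := h.exists_of_trivial
      ⟨fun x => (h.sgn x : ℂ) * (ξ : H → ℂ) x, OddOrderCharacters.InertiaAbelian.isIrr_mul_hom h.sgn ξ.2⟩ (by
        intro x
        change (h.sgn (z * x) : ℂ) * (ξ : H → ℂ) (z * x) = (h.sgn x : ℂ) * (ξ : H → ℂ) x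
        rw [h1, map_mul, Units.val_mul, h.sgn_of_not_mem h.nmem]
        ring)
    refine ⟨true, ζ, Subtype.ext ?_⟩
    funext x
    rw [ext_true, ← ext_false, ← hζ]
    change _ = (h.sgn x : ℂ) * ((h.sgn x : ℂ) * (ξ : H → ℂ) x)
    rw [← mul_assoc, hs, one_mul]

variable {M : Ideal AlgInt}

theorem ext_mem_iff (h : Spl z K) (hM : IsPModular 2 M) (b : Bool) (ζ : IrrCharacter K) :
    h.ext b ζ ∈ principalBlock M H ↔ ζ ∈ principalBlock M K := by
  have := isPrime_of_isPModular hM
  have hone : ∀ x : H, centralChar (fun _ : H => (1 : ℂ)) x = centralChar (fun _ : K => (1 : ℂ)) (h.proj x) := by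
    intro x
    rw [centralChar_def, centralChar_def, h.index_centralizer]
  have hext : ∀ x : H, centralChar (h.ext b ζ : H → ℂ) x =
      ((if b then h.sgn else 1 : H →* ℂˣ) x : ℂ) * centralChar (ζ : K → ℂ) (h.proj x) := by
    intro x
    rw [centralChar_def, centralChar_def, h.index_centralizer]
    change _ * (((if b then h.sgn else 1 : H →* ℂˣ) x : ℂ) * (ζ : K → ℂ) (h.proj x)) /
      (((if b then h.sgn else 1 : H →* ℂˣ) 1 : ℂ) * (ζ : K → ℂ) (h.proj 1)) = _
    rw [map_one, map_one, Units.val_one, one_mul]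
    ring
  constructor
  · intro h1 k
    have h2 := h1 (k : H)
    rw [hone, hext, h.proj_coe] at h2
    have h3 : ((if b then h.sgn else 1 : H →* ℂˣ) (k : H) : ℂ) = 1 := by
      cases b
      · simp
      · simpa using h.sgn_of_mem k.2
    rwa [h3, one_mul] at h2
  · intro h1 x
    have h2 := h1 (h.proj x)
    rw [hone, hext]
    have h3 : ((if b then h.sgn else 1 : H →* ℂˣ) x : ℂ) = 1 ∨
        ((if b then h.sgn else 1 : H →* ℂˣ) x : ℂ) = -1 := by
      cases b
      · left
        simp
      · by_cases hx : x ∈ K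
        · left
          simpa using h.sgn_of_mem hx
        · right
          simpa using h.sgn_of_not_mem hx
    rcases h3 with h3 | h3 <;> rw [h3]
    · rwa [one_mul]
    · have h4 : MemLocalRing M (centralChar (ζ : K → ℂ) (h.proj x)) :=
        memLocalRing_of_isIntegral (Blocks.Central.isIntegral_centralChar ζ.2 _)
      have h5 : MemLocalIdeal M (2 : ℂ) := by
        have := memLocalIdeal_of_mem (p_mem_of_isPModular hM)
        exact_mod_cast this
      have h6 := memLocalIdeal_add h2 (memLocalIdeal_mul_left h4 h5)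
      have h7 : centralChar (fun _ : K => (1 : ℂ)) (h.proj x) - -1 * centralChar (ζ : K → ℂ) (h.proj x) =
        (centralChar (fun _ : K => (1 : ℂ)) (h.proj x) - centralChar (ζ : K → ℂ) (h.proj x)) +
          centralChar (ζ : K → ℂ) (h.proj x) * 2 := by ring
      rw [h7]
      exact h6

open Classical in
/-- Sums over the principal block of `H`. -/
theorem sum_principalBlock (h : Spl z K) (hM : IsPModular 2 M) [Fintype (IrrCharacter H)]
    [Fintype (IrrCharacter K)] (f : IrrCharacter H → ℂ) :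
    ∑ ξ with ξ ∈ principalBlock M H, f ξ =
      ∑ ζ with ζ ∈ principalBlock M K, (f (h.ext false ζ) + f (h.ext true ζ)) := by
  let E : Bool × IrrCharacter K ≃ IrrCharacter H := Equiv.ofBijective (fun x => h.ext x.1 x.2)
    ⟨fun x y hxy => Prod.ext (h.ext_injective hxy).1 (h.ext_injective hxy).2, fun ξ => by
      obtain ⟨b, ζ, hζ⟩ := h.ext_surjective ξ
      exact ⟨(b, ζ), hζ.symm⟩⟩
  rw [Finset.sum_filter, ← Equiv.sum_comp E, Fintype.sum_prod_type_right, Finset.sum_filter]
  refine Finset.sum_congr rfl fun ζ _ => ?_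
  rw [Fintype.sum_bool]
  have h1 : ∀ b : Bool, E (b, ζ) = h.ext b ζ := fun b => rfl
  rw [h1, h1]
  simp only [h.ext_mem_iff hM]
  split_ifs
  · rw [add_comm]
  · rw [add_zero]

end ext

end Spl

end Cfsg.Agent.H61.K5
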